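import Groth.Agent.EtLocalLib.Split
import Mathlib

/-!
# Étale local product decomposition of unramified algebras
-/

set_option autoImplicit false

universe u

open AlgebraicGeometry CategoryTheory CategoryTheory.Limits TensorProduct

namespace Groth.Agent.UnramLib

/-- Finitely many unramified primes over a prime are split off étale locally. -/
theorem exists_idempotents (R S : Type u) [CommRing R] [CommRing S] [Algebra R S]
    [Algebra.FiniteType R S] (p : Ideal R) [p.IsPrime] {ι : Type} [Finite ι]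
    (x : ι → PrimeSpectrum S) (hinj : Function.Injective x)
    (hp : ∀ i, (x i).asIdeal.comap (algebraMap R S) = p)
    (hx : ∀ i, ∃ g : S, g ∉ (x i).asIdeal ∧ Algebra.FormallyUnramified R (Localization.Away g)) :
    ∃ (R' : Type u) (_ : CommRing R') (_ : Algebra R R') (_ : Algebra.Etale R R') (p' : Ideal R')
      (_ : p'.IsPrime) (_ : p'.LiesOver p) (K : Type) (_ : Fintype K)
      (e : Option K → R' ⊗[R] S),
      CompleteOrthogonalIdempotents e ∧
      (∀ k : K, Function.Surjective
          (algebraMap R' ((R' ⊗[R] S) ⧸ Ideal.span {1 - e (some k)})) ∧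
        (p'.map (algebraMap R' ((R' ⊗[R] S) ⧸ Ideal.span {1 - e (some k)}))).IsPrime ∧
        (p'.map (algebraMap R' ((R' ⊗[R] S) ⧸ Ideal.span {1 - e (some k)}))).comap
          (algebraMap R' ((R' ⊗[R] S) ⧸ Ideal.span {1 - e (some k)})) = p') ∧
      ∀ (Q : Ideal (R' ⊗[R] S)) (i : ι), Q.IsPrime → e none ∉ Q →
        Q.comap (algebraMap R' (R' ⊗[R] S)) = p' →
        Q.comap (Algebra.TensorProduct.includeRight : S →ₐ[R] R' ⊗[R] S).toRingHom ≠
          (x i).asIdeal := by
  classical
  let f : Spec (CommRingCat.of S) ⟶ Spec (CommRingCat.of R) :=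
    Spec.map (CommRingCat.ofHom (algebraMap R S))
  have hnhd : ∀ i, ∃ W : (Spec (CommRingCat.of S)).Opens, x i ∈ W ∧
      LocallyOfFiniteType (W.ι ≫ f) ∧ FormallyUnramified (W.ι ≫ f) := by
    intro i
    obtain ⟨g, hg, hfu⟩ := hx i
    haveI : LocallyOfFiniteType f := by
      refine (HasRingHomProperty.Spec_iff (P := @LocallyOfFiniteType)).2 ?_
      exact RingHom.finiteType_algebraMap.2 inferInstance
    let j : Spec (CommRingCat.of (Localization.Away g)) ⟶ Spec (CommRingCat.of S) :=
      Spec.map (CommRingCat.ofHom (algebraMap S (Localization.Away g)))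
    have hj : FormallyUnramified (j ≫ f) := by
      rw [← Spec.map_comp]
      refine (HasRingHomProperty.Spec_iff (P := @FormallyUnramified)).2 ?_
      rw [← CommRingCat.ofHom_comp, ← IsScalarTower.algebraMap_eq]
      exact RingHom.formallyUnramified_algebraMap.2 hfu
    have hmem : x i ∈ j.opensRange := by
      show x i ∈ Set.range (PrimeSpectrum.comap (algebraMap S (Localization.Away g)))
      rw [PrimeSpectrum.localization_away_comap_range (Localization.Away g) g]
      exact hg
    refine ⟨j.opensRange, hmem, inferInstance, ?_⟩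
    rw [← MorphismProperty.cancel_left_of_respectsIso @FormallyUnramified j.isoOpensRange.hom,
      Scheme.Hom.isoOpensRange_hom_ι_assoc]
    exact hj
  have hs : ∀ i, f (x i) = ⟨p, inferInstance⟩ := fun i => PrimeSpectrum.ext (hp i)
  obtain ⟨U, g, u, hg, hgu, K, hK, W, V, htop, hWV, hVV, hV, hW⟩ :=
    Groth.Agent.EtLocalLib.exists_decomposition @IsClosedImmersion f (fun _ h => h) _ x
      (Groth.Agent.EtLocalLib.exists_sheets_of_unramified f _ x hinj hs hnhd)
  haveI := hg
  obtain ⟨_, ⟨U', hU', rfl⟩, huU', -⟩ :=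
    U.isBasis_affineOpens.exists_subset_of_mem_open (Set.mem_univ u) isOpen_univ
  replace hU' : IsAffineOpen U' := hU'
  -- the étale algebra
  let h : Spec Γ(U, U') ⟶ U := hU'.fromSpec
  obtain ⟨φ, hφ⟩ : ∃ φ : CommRingCat.of R ⟶ Γ(U, U'), Spec.map φ = h ≫ g :=
    ⟨Spec.preimage (h ≫ g), Spec.map_preimage _⟩
  letI : Algebra R Γ(U, U') := φ.hom.toAlgebra
  have hφ' : Spec.map (CommRingCat.ofHom (algebraMap R Γ(U, U'))) = h ≫ g := hφ
  haveI : Algebra.Etale R Γ(U, U') := by
    have : Etale (Spec.map φ) := hφ ▸ inferInstance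
    exact RingHom.etale_algebraMap.1 ((HasRingHomProperty.Spec_iff (P := @Etale)).1 this)
  obtain ⟨u', hu'⟩ : u ∈ Set.range h := by rw [hU'.range_fromSpec]; exact huU'
  let p' : Ideal Γ(U, U') := u'.asIdeal
  haveI : p'.IsPrime := u'.isPrime
  haveI : p'.LiesOver p := by
    constructor
    have h1 : Spec.map φ u' = ⟨p, inferInstance⟩ := by
      rw [hφ, Scheme.Hom.comp_apply, hu', hgu]
    exact (congrArg PrimeSpectrum.asIdeal h1).symm
  -- the comparison map
  let T := Γ(U, U') ⊗[R] S
  let j : Spec (CommRingCat.of T) ⟶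
      pullback f (Spec.map (CommRingCat.ofHom (algebraMap R Γ(U, U')))) :=
    (pullbackSpecIso R Γ(U, U') S).inv ≫ (pullbackSymmetry _ _).hom
  have hj1 : j ≫ pullback.fst _ _ = Spec.map (CommRingCat.ofHom
      (Algebra.TensorProduct.includeRight : S →ₐ[R] T).toRingHom) := by
    simp [j, f, T]
  have hj2 : j ≫ pullback.snd _ _ = Spec.map (CommRingCat.ofHom (algebraMap Γ(U, U') T)) := by
    refine (Category.assoc _ _ _).trans ?_
    exact (congrArg ((pullbackSpecIso R Γ(U, U') S).inv ≫ ·)
      (pullbackSymmetry_hom_comp_snd _ _)).trans (pullbackSpecIso_inv_fst' R Γ(U, U') S)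
  let r : pullback f (Spec.map (CommRingCat.ofHom (algebraMap R Γ(U, U')))) ⟶ pullback f g :=
    pullback.map _ _ _ _ (𝟙 _) h (𝟙 _) (by simp) (by simp [hφ'])
  have hr1 : r ≫ pullback.fst f g = pullback.fst _ _ :=
    (pullback.lift_fst _ _ _).trans (Category.comp_id _)
  have hr2 : r ≫ pullback.snd f g = pullback.snd _ _ ≫ h := pullback.lift_snd _ _ _
  have hsq : IsPullback r (pullback.snd _ _) (pullback.snd f g) h := by
    refine IsPullback.of_right ?_ hr2 (IsPullback.of_hasPullback f g)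
    rw [hr1, ← hφ']
    exact IsPullback.of_hasPullback f _
  -- the pieces
  let O : Option K → (Spec (CommRingCat.of T)).Opens := fun o => (j ≫ r) ⁻¹ᵁ o.elim W V
  have hcover : ∀ Q, ∃ o, Q ∈ O o := by
    intro Q
    have : (j ≫ r) Q ∈ W ⊔ ⨆ k, V k := by rw [htop]; trivial
    rcases this with h1 | h1
    · exact ⟨none, h1⟩
    · obtain ⟨k, hk⟩ := TopologicalSpace.Opens.mem_iSup.1 h1
      exact ⟨some k, hk⟩
  have hdisj : ∀ o o', o ≠ o' → ∀ Q, Q ∈ O o → Q ∉ O o' := by
    rintro (_ | k) (_ | k') hne Q h1 h2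
    · exact hne rfl
    · exact (Disjoint.le_bot (hWV k') ⟨h1, h2⟩ : (j ≫ r) Q ∈ (⊥ : (pullback f g).Opens))
    · exact (Disjoint.le_bot (hWV k) ⟨h2, h1⟩ : (j ≫ r) Q ∈ (⊥ : (pullback f g).Opens))
    · exact (Disjoint.le_bot (hVV k k' fun e => hne (congrArg some e)) ⟨h1, h2⟩ :
        (j ≫ r) Q ∈ (⊥ : (pullback f g).Opens))
  let Os : Option K → Set (PrimeSpectrum T) := fun o => SetLike.coe (O o)
  have hclopen : ∀ o, IsClopen (Os o) := by
    intro o
    refine ⟨?_, (O o).isOpen⟩
    have : Os o = (⋃ o' ∈ {o' | o' ≠ o}, Os o')ᶜ := by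
      ext Q
      simp only [Set.mem_compl_iff, Set.mem_iUnion, Set.mem_setOf_eq, not_exists]
      refine ⟨fun h1 o' hne h2 => hdisj o' o hne Q h2 h1, fun h1 => ?_⟩
      obtain ⟨o', ho'⟩ := hcover Q
      by_contra hc
      exact h1 o' (fun e => hc (e ▸ ho')) ho'
    show IsClosed (Os o)
    rw [this]
    exact (isOpen_biUnion fun o' _ => (O o').isOpen).isClosed_compl
  choose e he heq using fun o => PrimeSpectrum.exists_idempotent_basicOpen_eq_of_isClopen (hclopen o)
  have hmem : ∀ o (Q : PrimeSpectrum T), e o ∉ Q.asIdeal ↔ Q ∈ O o := fun o Q =>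
    (Set.ext_iff.1 (heq o) Q).symm
  haveI := Fintype.ofFinite K
  have horth : OrthogonalIdempotents e := by
    refine ⟨he, fun o o' hne => ?_⟩
    refine PrimeSpectrum.basicOpen_injOn_isIdempotentElem ((he o).mul (he o')) IsIdempotentElem.zero ?_
    rw [PrimeSpectrum.basicOpen_zero, eq_bot_iff, PrimeSpectrum.basicOpen_mul]
    rintro Q ⟨h1, h2⟩
    exact absurd ((hmem o' Q).1 h2) (hdisj o o' hne Q ((hmem o Q).1 h1))
  have hcomp : CompleteOrthogonalIdempotents e := by
    refine ⟨horth, PrimeSpectrum.basicOpen_injOn_isIdempotentElem horth.isIdempotentElem_sum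
      IsIdempotentElem.one ?_⟩
    rw [PrimeSpectrum.basicOpen_one, eq_top_iff]
    intro Q _
    obtain ⟨o, ho⟩ := hcover Q
    intro hsum
    refine (hmem o Q).2 ho ?_
    have := Q.asIdeal.mul_mem_left (e o) hsum
    rwa [horth.mul_sum_of_mem (Finset.mem_univ o)] at this
  refine ⟨Γ(U, U'), inferInstance, inferInstance, inferInstance, p', inferInstance, inferInstance,
    K, inferInstance, e, hcomp, fun k => ?_, ?_⟩
  · obtain ⟨hVk, w, hwV, hwu⟩ := hV k
    let J : Ideal T := Ideal.span {1 - e (some k)}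
    haveI : IsClosedImmersion ((r ⁻¹ᵁ V k).ι ≫ pullback.snd _ _) :=
      MorphismProperty.of_isPullback
        ((isPullback_morphismRestrict r (V k)).paste_vert hsq) hVk
    let q : Spec (CommRingCat.of (T ⧸ J)) ⟶ Spec (CommRingCat.of T) :=
      Spec.map (CommRingCat.ofHom (Ideal.Quotient.mk J))
    haveI : IsClosedImmersion q := IsClosedImmersion.spec_of_surjective _ Ideal.Quotient.mk_surjective
    haveI : IsIso j := inferInstance
    have hrange : Set.range (q ≫ j) ⊆ Set.range (r ⁻¹ᵁ V k).ι := by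
      rintro _ ⟨Q, rfl⟩
      rw [Scheme.Opens.range_ι]
      show (j ≫ r) (q Q) ∈ V k
      refine (hmem (some k) (q Q)).1 fun h1 => ?_
      have h2 : (1 - e (some k)) ∈ (q Q).asIdeal := by
        show Ideal.Quotient.mk J (1 - e (some k)) ∈ Q.asIdeal
        rw [Ideal.Quotient.eq_zero_iff_mem.2 (Ideal.mem_span_singleton_self _)]
        exact zero_mem _
      exact (q Q).isPrime.one_notMem (sub_add_cancel 1 (e (some k)) ▸ add_mem h2 h1)
    let l := IsOpenImmersion.lift (r ⁻¹ᵁ V k).ι (q ≫ j) hrange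
    haveI : IsClosedImmersion (l ≫ (r ⁻¹ᵁ V k).ι) := by
      rw [IsOpenImmersion.lift_fac]; infer_instance
    haveI : IsClosedImmersion l := .of_comp l (r ⁻¹ᵁ V k).ι
    have hsur : Function.Surjective (algebraMap Γ(U, U') (T ⧸ J)) := by
      have h1 : IsClosedImmersion (q ≫ j ≫ pullback.snd _ _) := by
        rw [← Category.assoc, ← IsOpenImmersion.lift_fac (r ⁻¹ᵁ V k).ι (q ≫ j) hrange,
          Category.assoc]
        infer_instance
      rw [hj2, ← Spec.map_comp] at h1
      haveI := h1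
      have h2 := (IsClosedImmersion.isAffine_surjective_of_isAffine
        (Spec.map (CommRingCat.ofHom (algebraMap Γ(U, U') T) ≫ CommRingCat.ofHom (Ideal.Quotient.mk J)))).2
      let φ₀ := CommRingCat.ofHom (algebraMap Γ(U, U') T) ≫ CommRingCat.ofHom (Ideal.Quotient.mk J)
      have h3 : Function.Surjective φ₀.hom := by
        have e3 : φ₀ = (Scheme.ΓSpecIso _).inv ≫ (Spec.map φ₀).appTop ≫ (Scheme.ΓSpecIso _).hom := by
          rw [Scheme.ΓSpecIso_naturality, Iso.inv_hom_id_assoc]
        rw [e3]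
        exact (Scheme.ΓSpecIso _).commRingCatIsoToRingEquiv.surjective.comp
          (h2.comp (Scheme.ΓSpecIso _).commRingCatIsoToRingEquiv.symm.surjective)
      exact h3
    obtain ⟨w', hw'1, hw'2⟩ := Scheme.exists_preimage_of_isPullback hsq w u' (by rw [hwu, hu'])
    obtain ⟨Q, rfl⟩ := j.homeomorph.surjective w'
    have hQk : e (some k) ∉ Q.asIdeal := (hmem (some k) Q).2 (show (j ≫ r) Q ∈ V k by
      rw [Scheme.Hom.comp_apply]; exact hw'1.symm ▸ hwV)
    have hQp : Q.asIdeal.comap (algebraMap Γ(U, U') T) = p' := by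
      have h1 : (j ≫ pullback.snd _ _) Q = u' := by rw [Scheme.Hom.comp_apply]; exact hw'2
      rw [hj2] at h1
      exact congrArg PrimeSpectrum.asIdeal h1
    have hker : RingHom.ker (algebraMap Γ(U, U') (T ⧸ J)) ≤ p' := by
      intro a ha
      rw [RingHom.mem_ker, IsScalarTower.algebraMap_apply Γ(U, U') T (T ⧸ J),
        Ideal.Quotient.algebraMap_eq, Ideal.Quotient.eq_zero_iff_mem,
        Ideal.mem_span_singleton] at ha
      obtain ⟨c, hc⟩ := ha
      rw [← hQp, Ideal.mem_comap, hc]
      refine Ideal.mul_mem_right _ _ ((Q.isPrime.mem_or_mem ?_).resolve_left hQk)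
      rw [mul_sub, mul_one, (he (some k)).eq, sub_self]
      exact zero_mem _
    refine ⟨hsur, Ideal.map_isPrime_of_surjective hsur hker, ?_⟩
    rw [Ideal.comap_map_of_surjective _ hsur, sup_eq_left, ← RingHom.ker_eq_comap_bot]
    exact hker
  · intro Q i hQ he0 hQp hQx
    refine hW ((j ≫ r) ⟨Q, hQ⟩) i ((hmem none ⟨Q, hQ⟩).1 he0) ?_ ?_
    · rw [← Scheme.Hom.comp_apply, Category.assoc, hr2, ← Category.assoc, hj2,
        Scheme.Hom.comp_apply, ← hu']
      exact congrArg h (PrimeSpectrum.ext hQp)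
    · rw [← Scheme.Hom.comp_apply, Category.assoc, hr1, hj1]
      exact PrimeSpectrum.ext hQx

/-- Two primes over the same prime come from a prime of the tensor product. -/
theorem exists_prime_tensor (R A B : Type u) [CommRing R] [CommRing A] [CommRing B] [Algebra R A]
    [Algebra R B] (a : PrimeSpectrum A) (b : PrimeSpectrum B)
    (h : a.asIdeal.comap (algebraMap R A) = b.asIdeal.comap (algebraMap R B)) :
    ∃ Q : Ideal (A ⊗[R] B), Q.IsPrime ∧ Q.comap (algebraMap A (A ⊗[R] B)) = a.asIdeal ∧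
      Q.comap (Algebra.TensorProduct.includeRight : B →ₐ[R] A ⊗[R] B).toRingHom = b.asIdeal := by
  obtain ⟨z, hz1, hz2⟩ := Scheme.Pullback.exists_preimage_pullback
    (f := Spec.map (CommRingCat.ofHom (algebraMap R A)))
    (g := Spec.map (CommRingCat.ofHom (algebraMap R B))) a b (PrimeSpectrum.ext h)
  obtain ⟨Q, rfl⟩ := (pullbackSpecIso R A B).inv.homeomorph.surjective z
  have e1 := congrArg (fun m => m Q) (pullbackSpecIso_inv_fst' R A B)
  have e2 := congrArg (fun m => m Q) (pullbackSpecIso_inv_snd R A B)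
  simp only [Scheme.Hom.comp_apply] at e1 e2
  exact ⟨Q.asIdeal, Q.isPrime, congrArg PrimeSpectrum.asIdeal (e1.symm.trans hz1),
    congrArg PrimeSpectrum.asIdeal (e2.symm.trans hz2)⟩

/-- A ring splits along complete orthogonal idempotents indexed by `Option K`. -/
theorem exists_algEquiv_prod {R T : Type u} [CommRing R] [CommRing T] [Algebra R T] {K : Type}
    [Fintype K] {n : ℕ} (v : Fin n ≃ K) (e : Option K → T) (he : CompleteOrthogonalIdempotents e) :
    Nonempty (T ≃ₐ[R] ((∀ i : Fin n, T ⧸ Ideal.span {1 - e (some (v i))}) ×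
      (T ⧸ Ideal.span {1 - e none}))) := by
  have he' : CompleteOrthogonalIdempotents fun o : Option (Fin n) => e (o.map v) :=
    (CompleteOrthogonalIdempotents.equiv (Equiv.optionCongr v)).2 he
  refine ⟨AlgEquiv.ofBijective ((Pi.algHom _ _ fun _ => Ideal.Quotient.mkₐ R _).prod
    (Ideal.Quotient.mkₐ R _)) ⟨fun a b hab => ?_, fun y => ?_⟩⟩
  · apply he'.bijective_pi.1
    funext o
    rcases o with _ | i
    · exact congrArg Prod.snd hab
    · exact congr_fun (congrArg Prod.fst hab) i
  · let y' : ∀ o : Option (Fin n), T ⧸ Ideal.span {1 - e (o.map v)} := fun o =>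
      match o with
      | none => y.2
      | some i => y.1 i
    obtain ⟨t, ht⟩ := he'.bijective_pi.2 y'
    exact ⟨t, Prod.ext (funext fun i => congr_fun ht (some i)) (congr_fun ht none)⟩

end Groth.Agent.UnramLib
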